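import Groth.Agent.FiltCoh.ReesZ
import Groth.Agent.Props.GenLocus
import Groth.Prelude.Def_GrTwist
import Groth.Prelude.Def_AssocGr

/-!
# An invertible `O(1)` on the filtered blow-up gives units of degree one
-/

set_option autoImplicit false
set_option linter.style.haveILetI false

universe u

open CategoryTheory AlgebraicGeometry Opposite TopologicalSpace DirectSum

noncomputable section

namespace Groth.Agent.FiltCoh

section Twist

variable {A σ : Type u} [CommRing A] [IsDomain A] [SetLike σ A] [AddSubgroupClass σ A]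
  {𝒜 : ℕ → σ} [GradedRing 𝒜]

/-- an invertible `O(1)` has a generating fraction at every point -/
theorem exists_generating_fraction (hinv : PicF.IsInvertible (GrTwist.twist 𝒜 1)) (x : Proj 𝒜) :
    ∃ (j : ℕ) (a b : A), a ∈ 𝒜 (j + 1) ∧ b ∈ 𝒜 j ∧ b ∉ x.asHomogeneousIdeal ∧
      ∀ (i : ℕ) (c d : A), c ∈ 𝒜 (i + 1) → d ∈ 𝒜 i → d ∉ x.asHomogeneousIdeal →
        ∃ (e : ℕ) (k l : A), k ∈ 𝒜 e ∧ l ∈ 𝒜 e ∧ l ∉ x.asHomogeneousIdeal ∧ c * b * l = k * a * d := by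
  obtain ⟨U, e, hxU, hgen⟩ := Props.GenLocus.exists_isGen hinv x
  obtain ⟨V, hxV, iV, i₀, j, ⟨a, ha⟩, ⟨b, hb⟩, nin, hdeg, hw⟩ := e.2 ⟨x, hxU⟩
  have ha' : a ∈ 𝒜 (j + 1) := by
    rcases hdeg with h | h
    · have h' : i₀ = j + 1 := by exact_mod_cast h
      exact h' ▸ ha
    · have h' : a = 0 := h
      rw [h']
      exact zero_mem _
  refine ⟨j, a, b, ha', hb, nin ⟨x, hxV⟩, fun i c d hc hd hdx => ?_⟩
  let W : (Proj 𝒜).Opens := U ⊓ ProjectiveSpectrum.basicOpen 𝒜 d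
  have hxW : x ∈ W := ⟨hxU, hdx⟩
  let f : GrTwist.sectN (𝒜 := 𝒜) 1 (op W) :=
    ⟨fun y => ⟨Localization.mk c ⟨d, y.2.2⟩, Submodule.subset_span
        ⟨i + 1, i, ⟨c, hc⟩, ⟨d, hd⟩, y.2.2, by push_cast; ring, rfl⟩⟩,
      fun y => ⟨W, y.2, 𝟙 W, i + 1, i, ⟨c, hc⟩, ⟨d, hd⟩, fun z => z.2.2,
        Or.inl (by push_cast; ring), fun _ => rfl⟩⟩
  obtain ⟨r, hr⟩ := (hgen W inf_le_left).2 f
  have h1 : ((GrTwist.O (𝒜 := 𝒜) (op W)) ) = _ := rfl
  have h2 : ((r : GrTwist.O (𝒜 := 𝒜) (op W)).1 ⟨x, hxW⟩).val * (e.1 ⟨x, hxU⟩).1 =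
      Localization.mk c ⟨d, hdx⟩ := by
    rw [← GrTwist.coe_smul_val]
    exact congrArg (fun g : GrTwist.sectN (𝒜 := 𝒜) 1 (op W) => (g.1 ⟨x, hxW⟩).1) hr
  have h3 : (e.1 ⟨x, hxU⟩).1 = Localization.mk a ⟨b, nin ⟨x, hxV⟩⟩ := hw ⟨x, hxV⟩
  obtain ⟨q, hq⟩ := ((r : GrTwist.O (𝒜 := 𝒜) (op W)).1 ⟨x, hxW⟩).mk_surjective
  rw [← hq, HomogeneousLocalization.val_mk, h3, Localization.mk_mul, Localization.mk_eq_mk_iff,
    Localization.r_iff_exists] at h2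
  obtain ⟨w, hw'⟩ := h2
  refine ⟨q.deg, q.num, q.den, q.num.2, q.den.2, q.den_mem, ?_⟩
  have hw0 : (w : A) ≠ 0 := fun h => w.2 (h ▸ zero_mem x.asHomogeneousIdeal.toIdeal)
  have h4 := mul_left_cancel₀ hw0 hw'
  simp only [Submonoid.coe_mul] at h4
  linear_combination -h4

end Twist

variable {A : Type u} [CommRing A] (𝓕 : FiltBl.IdealFiltration A)

theorem rmon_mem_deg (n : ℕ) (a : A) (h : a ∈ 𝓕.F n) : rmon 𝓕 n a h ∈ Rees.deg 𝓕.rees n :=
  (Rees.mem_deg_iff _ _ _).2 fun m hm => by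
    show (Polynomial.monomial n a).coeff m = 0
    rw [Polynomial.coeff_monomial, if_neg (Ne.symm hm)]

theorem eq_rmon {n : ℕ} {x : 𝓕.rees} (hx : x ∈ Rees.deg 𝓕.rees n) :
    x = rmon 𝓕 n _ (x.2 n) := by
  refine Subtype.ext (Polynomial.ext fun m => ?_)
  show _ = (Polynomial.monomial n _).coeff m
  rw [Polynomial.coeff_monomial]
  by_cases h : n = m
  · subst h; rw [if_pos rfl]
  · rw [if_neg h]; exact (Rees.mem_deg_iff _ _ _).1 hx m (Ne.symm h)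

theorem rmon_mul (n m : ℕ) (a b : A) (ha : a ∈ 𝓕.F n) (hb : b ∈ 𝓕.F m) :
    rmon 𝓕 n a ha * rmon 𝓕 m b hb = rmon 𝓕 (n + m) (a * b) (𝓕.mul_le n m (Ideal.mul_mem_mul ha hb)) :=
  Subtype.ext (Polynomial.monomial_mul_monomial n m a b)

theorem coeff_mul_deg {n m : ℕ} {x y : 𝓕.rees} (hx : x ∈ Rees.deg 𝓕.rees n) (hy : y ∈ Rees.deg 𝓕.rees m) :
    ((x * y : 𝓕.rees) : Polynomial A).coeff (n + m) =
      (x : Polynomial A).coeff n * (y : Polynomial A).coeff m := by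
  conv_lhs => rw [eq_rmon 𝓕 hx, eq_rmon 𝓕 hy, rmon_mul]
  show (Polynomial.monomial (n + m) _).coeff (n + m) = _
  rw [Polynomial.coeff_monomial, if_pos rfl]

theorem mkG_rmon_eq_zero_iff (n : ℕ) (a : A) (h : a ∈ 𝓕.F n) :
    AssocGr.mkG 𝓕 (rmon 𝓕 n a h) = 0 ↔ a ∈ 𝓕.F (n + 1) := by
  rw [AssocGr.mkG_eq_zero_iff]
  constructor
  · intro h'
    have := h' n
    rwa [show ((rmon 𝓕 n a h : 𝓕.rees) : Polynomial A) = Polynomial.monomial n a from rfl,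
      Polynomial.coeff_monomial, if_pos rfl] at this
  · intro h' m
    show (Polynomial.monomial n a).coeff m ∈ _
    rw [Polynomial.coeff_monomial]
    split_ifs with e
    · subst e; exact h'
    · exact Ideal.zero_mem _

theorem coeff_notMem_succ {n : ℕ} {x : 𝓕.rees} (hx : x ∈ Rees.deg 𝓕.rees n) {P : Ideal 𝓕.rees}
    (hP : AssocGr.succIdeal 𝓕 ≤ P) (hxP : x ∉ P) : (x : Polynomial A).coeff n ∉ 𝓕.F (n + 1) := fun h => by
  refine hxP (hP ?_)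
  rw [eq_rmon 𝓕 hx, ← AssocGr.mkG_eq_zero_iff, mkG_rmon_eq_zero_iff]
  exact h

variable [IsDomain (AssocGr.GrRing 𝓕)]

theorem notMem_succ_mul {n m : ℕ} {v w : A} (hv : v ∈ 𝓕.F n) (hw : w ∈ 𝓕.F m) (hv' : v ∉ 𝓕.F (n + 1))
    (hw' : w ∉ 𝓕.F (m + 1)) : v * w ∉ 𝓕.F (n + m + 1) := fun h => by
  rw [← mkG_rmon_eq_zero_iff 𝓕 n v hv] at hv'
  rw [← mkG_rmon_eq_zero_iff 𝓕 m w hw] at hw'
  refine mul_ne_zero hv' hw' ?_
  rw [← map_mul, rmon_mul, mkG_rmon_eq_zero_iff]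
  exact h

theorem mem_of_mul_mem {n t : ℕ} {v w : A} (hv : v ∈ 𝓕.F n) (hv' : v ∉ 𝓕.F (n + 1))
    (h : v * w ∈ 𝓕.F (n + t)) : w ∈ 𝓕.F t := by
  suffices h' : ∀ i ≤ t, w ∈ 𝓕.F i from h' t le_rfl
  intro i
  induction i with
  | zero => intro _; rw [𝓕.zero_eq]; trivial
  | succ i ih =>
    intro hi
    by_contra hw'
    exact notMem_succ_mul 𝓕 hv (ih (by omega)) hv' hw' (𝓕.antitone (by omega) h)

variable [IsDomain A]

theorem exists_deg_one_notMem (hinv : PicF.IsInvertible (GrTwist.twist (Rees.deg 𝓕.rees) 1))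
    (x : Proj (Rees.deg 𝓕.rees)) (hx : AssocGr.succIdeal 𝓕 ≤ x.asHomogeneousIdeal.toIdeal)
    {m : ℕ} {g h : 𝓕.rees} (hg : g ∈ Rees.deg 𝓕.rees (m + 1)) (hh : h ∈ Rees.deg 𝓕.rees m)
    (hg0 : AssocGr.mkG 𝓕 g ≠ 0) (hh0 : AssocGr.mkG 𝓕 h ≠ 0)
    {d : ℕ} (hd : 0 < d) {s : 𝓕.rees} (hs : s ∈ Rees.deg 𝓕.rees d) (hsx : s ∉ x.asHomogeneousIdeal) :
    ∃ (j : ℕ) (a b : 𝓕.rees), a ∈ Rees.deg 𝓕.rees (j + 1) ∧ b ∈ Rees.deg 𝓕.rees j ∧
      a ∉ x.asHomogeneousIdeal ∧ b ∉ x.asHomogeneousIdeal := by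
  obtain ⟨j, a, b, ha, hb, hbx, hgen⟩ := exists_generating_fraction hinv x
  refine ⟨j, a, b, ha, hb, ?_, hbx⟩
  have hP := x.isPrime
  have hne : ∀ {y : 𝓕.rees}, y ∉ x.asHomogeneousIdeal → AssocGr.mkG 𝓕 y ≠ 0 := fun hy h =>
    hy (hx ((AssocGr.mkG_eq_zero_iff 𝓕 _).1 h))
  have ha0 : AssocGr.mkG 𝓕 a ≠ 0 := by
    intro h0
    obtain ⟨d, rfl⟩ : ∃ d', d = d' + 1 := ⟨d - 1, by omega⟩
    obtain ⟨e, k, l, -, -, hlx, he⟩ := hgen ((d + 1) * m) (g * h ^ d) (s ^ m)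
      (by
        have h' := SetLike.mul_mem_graded hg (SetLike.pow_mem_graded d hh)
        rwa [show m + 1 + d • m = (d + 1) * m + 1 by rw [smul_eq_mul]; ring] at h')
      (by
        have h' := SetLike.pow_mem_graded m hs
        rwa [smul_eq_mul, mul_comm] at h')
      (fun h' => hsx (hP.mem_of_pow_mem m h'))
    have h' := congrArg (AssocGr.mkG 𝓕) he
    simp only [map_mul, map_pow, h0, mul_zero, zero_mul] at h'
    exact mul_ne_zero (mul_ne_zero (mul_ne_zero hg0 (pow_ne_zero d hh0)) (hne hbx)) (hne hlx) h'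
  obtain ⟨α, hα⟩ : ∃ α, α = (a : Polynomial A).coeff (j + 1) := ⟨_, rfl⟩
  obtain ⟨β, hβ⟩ : ∃ β, β = (b : Polynomial A).coeff j := ⟨_, rfl⟩
  have hαF : α ∈ 𝓕.F (j + 1) := hα ▸ a.2 (j + 1)
  have hα' : α ∉ 𝓕.F (j + 1 + 1) := fun h' => ha0 (by
    rw [eq_rmon 𝓕 ha, mkG_rmon_eq_zero_iff]; exact hα ▸ h')
  have main : ∀ n : ℕ, n ≤ d → ∃ (e : ℕ) (L : 𝓕.rees) (κ : A), L ∈ Rees.deg 𝓕.rees e ∧
      L ∉ x.asHomogeneousIdeal ∧ κ ∈ 𝓕.F (e + (d - n)) ∧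
      (s : Polynomial A).coeff d * β ^ n * (L : Polynomial A).coeff e = α ^ n * κ := by
    intro n
    induction n with
    | zero =>
      intro _
      refine ⟨0, 1, (s : Polynomial A).coeff d, SetLike.one_mem_graded _,
        fun h' => hP.ne_top ((Ideal.eq_top_iff_one _).2 h'), by simpa using s.2 d, ?_⟩
      simp
    | succ n ih =>
      intro hn
      obtain ⟨e, L, κ, hL, hLx, hκ, he⟩ := ih (by omega)
      have hκ1 : κ ∈ 𝓕.F (e + 1) := 𝓕.antitone (by omega) hκ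
      obtain ⟨e', k, l, hk, hl, hlx, hcl⟩ := hgen e (rmon 𝓕 (e + 1) κ hκ1) L (rmon_mem_deg 𝓕 _ _ _) hL hLx
      have hA : κ * β * (l : Polynomial A).coeff e' =
          (k : Polynomial A).coeff e' * α * (L : Polynomial A).coeff e := by
        have h1 := congrArg (fun z : 𝓕.rees => (z : Polynomial A).coeff (e + 1 + j + e')) hcl
        replace h1 : ((rmon 𝓕 (e + 1) κ hκ1 * b * l : 𝓕.rees) : Polynomial A).coeff (e + 1 + j + e') =
            ((k * a * L : 𝓕.rees) : Polynomial A).coeff (e + 1 + j + e') := h1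
        rw [coeff_mul_deg 𝓕 (SetLike.mul_mem_graded (rmon_mem_deg 𝓕 _ _ hκ1) hb) hl,
          coeff_mul_deg 𝓕 (rmon_mem_deg 𝓕 _ _ hκ1) hb,
          show e + 1 + j + e' = e' + (j + 1) + e by omega,
          coeff_mul_deg 𝓕 (SetLike.mul_mem_graded hk ha) hL, coeff_mul_deg 𝓕 hk ha] at h1
        rw [show ((rmon 𝓕 (e + 1) κ hκ1 : 𝓕.rees) : Polynomial A).coeff (e + 1) = κ from
          (Polynomial.coeff_monomial).trans (if_pos rfl), ← hα, ← hβ] at h1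
        exact h1
      have hL' := coeff_notMem_succ 𝓕 hL hx hLx
      refine ⟨e', l, (k : Polynomial A).coeff e', hl, hlx, ?_, ?_⟩
      · refine mem_of_mul_mem 𝓕 (n := j + 1 + e) (v := α * (L : Polynomial A).coeff e)
          (𝓕.mul_le _ _ (Ideal.mul_mem_mul hαF (L.2 e)))
          (notMem_succ_mul 𝓕 hαF (L.2 e) hα' hL') ?_
        rw [show α * (L : Polynomial A).coeff e * (k : Polynomial A).coeff e' =
          κ * β * (l : Polynomial A).coeff e' by rw [hA]; ring]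
        refine 𝓕.antitone ?_ (𝓕.mul_le _ _ (Ideal.mul_mem_mul
          (𝓕.mul_le _ _ (Ideal.mul_mem_mul hκ (hβ ▸ b.2 j))) (l.2 e')))
        omega
      · refine mul_right_cancel₀ (b := (L : Polynomial A).coeff e)
          (fun h' => hL' (by rw [h']; exact zero_mem _)) ?_
        calc (s : Polynomial A).coeff d * β ^ (n + 1) * (l : Polynomial A).coeff e' *
              (L : Polynomial A).coeff e
            = (s : Polynomial A).coeff d * β ^ n * (L : Polynomial A).coeff e *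
              (β * (l : Polynomial A).coeff e') := by ring
          _ = α ^ n * (κ * β * (l : Polynomial A).coeff e') := by rw [he]; ring
          _ = α ^ (n + 1) * (k : Polynomial A).coeff e' * (L : Polynomial A).coeff e := by rw [hA]; ring
  obtain ⟨e, L, κ, hL, hLx, hκ, he⟩ := main d le_rfl
  rw [Nat.sub_self, add_zero] at hκ
  intro hax
  have heq : s * b ^ d * L = a ^ d * rmon 𝓕 e κ hκ := by
    have h1 := SetLike.mul_mem_graded (SetLike.mul_mem_graded hs (SetLike.pow_mem_graded d hb)) hL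
    have h2 := SetLike.mul_mem_graded (SetLike.pow_mem_graded d ha) (rmon_mem_deg 𝓕 e κ hκ)
    refine Subtype.ext ?_
    rw [eq_rmon 𝓕 hs, eq_rmon 𝓕 hb, eq_rmon 𝓕 hL, eq_rmon 𝓕 ha]
    simp only [Subalgebra.coe_mul, Subalgebra.coe_pow, rmon, Polynomial.monomial_mul_monomial,
      Polynomial.monomial_pow, ← hα, ← hβ]
    rw [he, show d + j * d + e = (j + 1) * d + e by ring]
  have h3 : s * b ^ d * L ∈ x.asHomogeneousIdeal.toIdeal := by
    rw [heq]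
    exact Ideal.mul_mem_right _ _ (Ideal.pow_mem_of_mem _ hax d hd)
  rcases hP.mem_or_mem h3 with h4 | h4
  · exact (hP.mem_or_mem h4).elim hsx (fun h5 => hbx (hP.mem_of_pow_mem d h5))
  · exact hLx h4

end Groth.Agent.FiltCoh
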