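import Mathlib.RingTheory.GradedAlgebra.HomogeneousLocalization
import Mathlib.RingTheory.GradedAlgebra.Homogeneous.Ideal
import Mathlib.RingTheory.Polynomial.IsIntegral
import Mathlib.RingTheory.IntegralClosure.IntegrallyClosed
import Mathlib.RingTheory.Localization.LocalizationLocalization
import Mathlib.RingTheory.LocalProperties.IntegrallyClosed

/-!
# A graded domain is normal at a prime where it has a unit of degree one and normal degree zero part
-/

set_option autoImplicit false
set_option linter.style.haveILetI false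

universe u v

open HomogeneousLocalization DirectSum Polynomial

noncomputable section

namespace Groth.Agent.FiltCoh

variable {G : Type u} [CommRing G] [IsDomain G] {σ : Type v} [SetLike σ G] [AddSubgroupClass σ G]
  (𝒢 : ℕ → σ) [GradedRing 𝒢]

/-- the degree zero ring at `p` only depends on the homogeneous elements of `p` -/
theorem exists_equiv_atPrime {p q : Ideal G} [p.IsPrime] [q.IsPrime] (hqp : q ≤ p)
    (hhom : ∀ (n : ℕ), ∀ g ∈ 𝒢 n, g ∈ p → g ∈ q) :
    Nonempty (AtPrime 𝒢 p ≃+* AtPrime 𝒢 q) := by
  have hle : p.primeCompl ≤ q.primeCompl := fun g hg h => hg (hqp h)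
  refine ⟨RingEquiv.ofBijective (mapId 𝒢 hle) ⟨?_, ?_⟩⟩
  · rw [injective_iff_map_eq_zero]
    intro z hz
    obtain ⟨c, rfl⟩ := z.mk_surjective
    change (mk ⟨c.deg, c.num, c.den, hle c.den_mem⟩ : AtPrime 𝒢 q) = 0 at hz
    rw [ext_iff_val, val_mk, val_zero, Localization.mk_eq_mk',
      IsLocalization.mk'_eq_zero_iff] at hz
    obtain ⟨m, hm⟩ := hz
    refine mk_eq_zero_of_num c (Subtype.ext ?_)
    exact (mul_eq_zero.1 hm).resolve_left fun h => m.2 (show (m : G) ∈ q by rw [h]; exact q.zero_mem)
  · intro z
    obtain ⟨c, rfl⟩ := z.mk_surjective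
    exact ⟨mk ⟨c.deg, c.num, c.den, fun h => c.den_mem (hhom _ _ c.den.2 h)⟩, rfl⟩

variable {𝒢} {p : Ideal G} [p.IsPrime]

local notation "O" => Localization.AtPrime p

theorem isIntegrallyClosed_of_deg_one {j : ℕ} {a b : G} (ha : a ∈ 𝒢 (j + 1)) (hb : b ∈ 𝒢 j)
    (hap : a ∉ p) (hbp : b ∉ p) (hdom : IsDomain (AtPrime 𝒢 p))
    (hic : IsIntegrallyClosed (AtPrime 𝒢 p)) : IsIntegrallyClosed (Localization.AtPrime p) := by
  classical
  let ε : Localization.AtPrime p := Localization.mk a ⟨b, hbp⟩
  let φ : (AtPrime 𝒢 p)[X] →+* Localization.AtPrime p :=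
    Polynomial.eval₂RingHom (algebraMap (AtPrime 𝒢 p) (Localization.AtPrime p)) ε
  have hinjG : Function.Injective (algebraMap G (Localization.AtPrime p)) :=
    IsLocalization.injective _ p.primeCompl_le_nonZeroDivisors
  have hrange : ∀ g : G, algebraMap G (Localization.AtPrime p) g ∈ φ.range := by
    intro g
    rw [← DirectSum.sum_support_decompose 𝒢 g, map_sum]
    refine sum_mem fun n _ => ?_
    set gn := (decompose 𝒢 g n : G)
    have hgn : gn ∈ 𝒢 n := (decompose 𝒢 g n).2
    let c : AtPrime 𝒢 p := mk ⟨n + n • j, ⟨gn * b ^ n, SetLike.mul_mem_graded hgn (SetLike.pow_mem_graded n hb)⟩,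
      ⟨a ^ n, (show n • (j + 1) = n + n • j by rw [smul_add, smul_eq_mul, smul_eq_mul, mul_one, add_comm]) ▸
        SetLike.pow_mem_graded n ha⟩, fun h => hap (‹p.IsPrime›.mem_of_pow_mem n h)⟩
    refine ⟨C c * Polynomial.X ^ n, ?_⟩
    simp only [φ, coe_eval₂RingHom, eval₂_mul, eval₂_C, eval₂_X_pow, HomogeneousLocalization.algebraMap_apply,
      c, val_mk, ε, Localization.mk_pow, Localization.mk_mul]
    rw [← Localization.mk_one_eq_algebraMap, Localization.mk_eq_mk_iff, Localization.r_iff_exists]
    exact ⟨1, by simp; ring⟩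
  have hφ : Function.Injective φ := by
    rw [injective_iff_map_eq_zero]
    intro f hf
    choose d num den hnum hden hdenp hval using fun n => show ∃ (e : ℕ) (x y : G), x ∈ 𝒢 e ∧ y ∈ 𝒢 e ∧
        y ∉ p ∧ (f.coeff n).val * algebraMap G O y = algebraMap G O x from by
      obtain ⟨c, hc⟩ := (f.coeff n).mk_surjective
      refine ⟨c.deg, c.num, c.den, c.num.2, c.den.2, c.den_mem, ?_⟩
      rw [← hc, val_mk, Localization.mk_eq_mk']
      exact IsLocalization.mk'_spec O (c.num : G) (⟨c.den, c.den_mem⟩ : p.primeCompl)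
    let N := f.natDegree + 1
    let L : G := ∏ n ∈ Finset.range N, den n
    let e : ℕ := ∑ n ∈ Finset.range N, d n
    have hεb : ε * algebraMap G O b = algebraMap G O a := by
      simp only [ε, Localization.mk_eq_mk']
      exact IsLocalization.mk'_spec O a (⟨b, hbp⟩ : p.primeCompl)
    let t : ℕ → G := fun n => num n * (∏ m ∈ (Finset.range N).erase n, den m) * a ^ n * b ^ (N - n)
    have ht : ∀ n ∈ Finset.range N, t n ∈ 𝒢 (e + N * j + n) := by
      intro n hn
      have hn' : n < N := Finset.mem_range.1 hn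
      have h := SetLike.mul_mem_graded (SetLike.mul_mem_graded (SetLike.mul_mem_graded (hnum n)
        (show (∏ m ∈ (Finset.range N).erase n, den m) ∈ 𝒢 (∑ m ∈ (Finset.range N).erase n, d m) from
          SetLike.prod_mem_graded 𝒢 d den fun m _ => hden m)) (SetLike.pow_mem_graded n ha))
        (SetLike.pow_mem_graded (N - n) hb)
      rw [Finset.add_sum_erase _ _ hn] at h
      convert h using 2
      obtain ⟨k, hk⟩ := Nat.exists_eq_add_of_le hn'.le
      simp only [e]
      rw [hk, Nat.add_sub_cancel_left, smul_eq_mul, smul_eq_mul]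
      ring
    have hsum : ∑ n ∈ Finset.range N, t n = 0 := by
      refine hinjG ?_
      rw [map_zero, map_sum]
      have h0 : φ f = 0 := hf
      rw [show φ f = _ from Polynomial.eval₂_eq_sum_range _ ε] at h0
      have := congrArg (· * (algebraMap G O L * algebraMap G O b ^ N)) h0
      simp only [zero_mul, Finset.sum_mul] at this
      rw [← this]
      refine Finset.sum_congr rfl fun n hn => ?_
      have hn' : n < N := Finset.mem_range.1 hn
      simp only [t, map_mul, map_pow, HomogeneousLocalization.algebraMap_apply]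
      rw [← hεb, ← hval n, show L = den n * ∏ m ∈ (Finset.range N).erase n, den m from
        (Finset.mul_prod_erase _ _ hn).symm, map_mul, mul_pow,
        show algebraMap G O b ^ N = algebraMap G O b ^ n * algebraMap G O b ^ (N - n) by
          rw [← pow_add, Nat.add_sub_cancel' hn'.le]]
      ring
    refine Polynomial.ext fun n => ?_
    rw [coeff_zero]
    by_cases hn : n ∈ Finset.range N
    · have h0 : t n = 0 := by
        have := congrArg (GradedRing.proj 𝒢 (e + N * j + n)) hsum
        simp only [map_sum, map_zero, GradedRing.proj_apply] at this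
        rw [Finset.sum_eq_single n (fun m hm hmn => decompose_of_mem_ne 𝒢 (ht m hm) (by omega))
          (fun h => absurd hn h), decompose_of_mem_same 𝒢 (ht n hn)] at this
        exact this
      have hn0 : num n = 0 := by
        simp only [t, mul_eq_zero] at h0
        rcases h0 with ((h0 | h0) | h0) | h0
        · exact h0
        · obtain ⟨m, -, hm⟩ := Finset.prod_eq_zero_iff.1 h0
          exact absurd (hm ▸ p.zero_mem) (hdenp m)
        · exact absurd (pow_eq_zero_iff'.1 h0).1 (fun h => hap (h ▸ p.zero_mem))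
        · exact absurd (pow_eq_zero_iff'.1 h0).1 (fun h => hbp (h ▸ p.zero_mem))
      have h1 := hval n
      rw [hn0, map_zero, mul_eq_zero] at h1
      refine val_injective p.primeCompl ?_
      rw [val_zero]
      exact h1.resolve_right fun h => hdenp n (by rw [hinjG (h.trans (map_zero _).symm)]; exact p.zero_mem)
    · exact Polynomial.coeff_eq_zero_of_natDegree_lt (by rw [Finset.mem_range] at hn; omega)
  letI : Algebra (AtPrime 𝒢 p)[X] (Localization.AtPrime p) := φ.toAlgebra
  let M : Submonoid (AtPrime 𝒢 p)[X] := (IsUnit.submonoid (Localization.AtPrime p)).comap φ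
  haveI : IsLocalization M (Localization.AtPrime p) := by
    refine (isLocalization_iff _ _).2 ⟨fun m => m.2, fun z => ?_, fun {x y} h => ⟨1, by rw [hφ h]⟩⟩
    obtain ⟨⟨g, s⟩, hgs⟩ := IsLocalization.surj p.primeCompl z
    obtain ⟨fg, hfg⟩ := hrange g
    obtain ⟨fs, hfs⟩ := hrange s
    refine ⟨⟨fg, ⟨fs, show IsUnit (φ fs) by rw [hfs]; exact IsLocalization.map_units _ s⟩⟩, ?_⟩
    show z * φ fs = φ fg
    rw [hfs, hfg]
    exact hgs
  have hM : M ≤ nonZeroDivisors (AtPrime 𝒢 p)[X] := fun x hx => mem_nonZeroDivisors_of_ne_zero fun h => by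
    subst h
    exact not_isUnit_zero (show IsUnit (0 : Localization.AtPrime p) by
      have : IsUnit (φ 0) := hx
      rwa [map_zero] at this)
  exact isIntegrallyClosed_of_isLocalization _ M hM

end Groth.Agent.FiltCoh
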