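import Groth.Agent.FiltRees.Laurent
import Groth.Agent.GrLC.Vanish
import Groth.Agent.GrLC.LocCohTors
import Groth.Agent.LocCoh.BaseChangeIso

/-!
# The Rees algebra as a `ℤ`-graded ring acting on the extended Rees algebra; vanishing of local
cohomology of the extended Rees algebra from that of the associated graded ring
-/

set_option autoImplicit false
set_option linter.style.haveILetI false

universe u

open Polynomial LaurentPolynomial DirectSum

noncomputable section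

namespace Groth.Agent.FiltCoh

open Groth.Agent.FiltRees Groth.Agent.GrLC

variable {A : Type u} [CommRing A] (𝓕 : FiltBl.IdealFiltration A)

/-- The inclusion of the Rees algebra. -/
def toExt : 𝓕.rees →+* 𝓕.extRees :=
  RingHom.codRestrict ((Polynomial.toLaurent (R := A)).comp 𝓕.rees.val.toRingHom) 𝓕.extRees
    (fun x => by
      show Polynomial.toLaurent (x : A[X]) ∈ 𝓕.extRees
      rw [← Polynomial.sum_monomial_eq (x : A[X]), Polynomial.sum, map_sum]
      refine sum_mem fun n _ => ?_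
      rw [← Polynomial.C_mul_X_pow_eq_monomial, Polynomial.toLaurent_C_mul_X_pow]
      exact (mon 𝓕 n _ (by rw [Int.toNat_natCast]; exact x.2 n)).2)

instance algExt : Algebra 𝓕.rees 𝓕.extRees := (toExt 𝓕).toAlgebra

theorem algebraMap_injective : Function.Injective (algebraMap 𝓕.rees 𝓕.extRees) := by
  intro x y h
  exact Subtype.ext (Polynomial.toLaurent_injective (congrArg Subtype.val h))

/-- the monomial `a X^n` of the Rees algebra -/
def rmon (n : ℕ) (a : A) (h : a ∈ 𝓕.F n) : 𝓕.rees :=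
  ⟨Polynomial.monomial n a, fun m => by
    rw [Polynomial.coeff_monomial]
    split_ifs with e
    · subst e; exact h
    · exact Ideal.zero_mem _⟩

theorem algebraMap_rmon (n : ℕ) (a : A) (h : a ∈ 𝓕.F n) :
    algebraMap 𝓕.rees 𝓕.extRees (rmon 𝓕 n a h) = mon 𝓕 (n : ℤ) a (by rw [Int.toNat_natCast]; exact h) := by
  refine Subtype.ext ?_
  show Polynomial.toLaurent (Polynomial.monomial n a) = _
  rw [coe_mon, ← Polynomial.C_mul_X_pow_eq_monomial, Polynomial.toLaurent_C_mul_X_pow]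

theorem sum_rmon (x : 𝓕.rees) :
    x = ∑ n ∈ (x : A[X]).support, rmon 𝓕 n _ (x.2 n) := by
  refine Subtype.ext ?_
  rw [AddSubmonoidClass.coe_finsetSum]
  exact ((x : A[X]).as_sum_support)

/-- The grading by `ℤ`. -/
def zdeg (n : ℤ) : AddSubgroup 𝓕.rees :=
  (egr 𝓕 n).comap (algebraMap 𝓕.rees 𝓕.extRees).toAddMonoidHom

theorem mem_zdeg {n : ℤ} {x : 𝓕.rees} :
    x ∈ zdeg 𝓕 n ↔ algebraMap 𝓕.rees 𝓕.extRees x ∈ egr 𝓕 n := Iff.rfl

theorem rmon_mem (n : ℕ) (a : A) (h : a ∈ 𝓕.F n) : rmon 𝓕 n a h ∈ zdeg 𝓕 n := by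
  rw [mem_zdeg, algebraMap_rmon]
  exact mon_mem 𝓕 _ _ _

instance : SetLike.GradedMonoid (zdeg 𝓕) where
  one_mem := by rw [mem_zdeg, map_one]; exact SetLike.GradedOne.one_mem
  mul_mem i j x y hx hy := by
    rw [mem_zdeg, map_mul]
    exact SetLike.GradedMul.mul_mem (A := egr 𝓕) hx hy

theorem isInternal_zdeg : DirectSum.IsInternal (zdeg 𝓕) := by
  classical
  have key : ∀ (a : DirectSum ℤ fun n => zdeg 𝓕 n) (m : ℤ),
      ((algebraMap 𝓕.rees 𝓕.extRees (DirectSum.coeAddMonoidHom (zdeg 𝓕) a) : 𝓕.extRees) :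
        A[T;T⁻¹]).coeff m =
      ((algebraMap 𝓕.rees 𝓕.extRees (a m) : 𝓕.extRees) : A[T;T⁻¹]).coeff m := by
    intro a m
    induction a using DirectSum.induction_on with
    | zero => simp
    | of e x =>
      rw [DirectSum.coeAddMonoidHom_of]
      by_cases h : m = e
      · subst h; rw [DirectSum.of_eq_same]
      · rw [DirectSum.of_eq_of_ne _ _ _ h, show ((algebraMap 𝓕.rees 𝓕.extRees x : 𝓕.extRees) : A[T;T⁻¹]).coeff m = 0 from x.2 m h]; simp
    | add a b ha hb => simp [ha, hb]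
  constructor
  · intro a b hab
    refine DFinsupp.ext fun m => Subtype.ext (algebraMap_injective 𝓕 (Subtype.ext
      (LaurentPolynomial.ext fun j => ?_)))
    by_cases h : j = m
    · subst h
      rw [← key, hab, key]
    · exact ((a m).2 j h).trans ((b m).2 j h).symm
  · intro x
    refine ⟨∑ n ∈ (x : A[X]).support,
      DirectSum.of (fun n => zdeg 𝓕 n) (n : ℤ) ⟨_, rmon_mem 𝓕 n _ (x.2 n)⟩, ?_⟩
    simp only [map_sum, DirectSum.coeAddMonoidHom_of]
    exact (sum_rmon 𝓕 x).symm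

instance gradedRing_zdeg : GradedRing (zdeg 𝓕) :=
  { (isInternal_zdeg 𝓕).chooseDecomposition, (inferInstance : SetLike.GradedMonoid (zdeg 𝓕)) with }

theorem zdeg_neg (n : ℤ) (hn : n < 0) (x : 𝓕.rees) (hx : x ∈ zdeg 𝓕 n) : x = 0 := by
  refine algebraMap_injective 𝓕 ?_
  rw [map_zero]
  refine Subtype.ext (LaurentPolynomial.ext fun m => ?_)
  rw [show ((0 : 𝓕.extRees) : A[T;T⁻¹]) = 0 from rfl, AddMonoidAlgebra.coeff_zero, Finsupp.zero_apply]
  by_cases h : m = n
  · show (Polynomial.toLaurent (x : A[X])).coeff m = 0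
    subst h
    obtain ⟨y, hy⟩ : ∃ y : A[X], y = x := ⟨_, rfl⟩
    rw [← hy]
    clear hy hx
    induction y using Polynomial.induction_on' with
    | add p q hp hq => rw [map_add, AddMonoidAlgebra.coeff_add, Finsupp.add_apply, hp, hq, add_zero]
    | monomial k a =>
      rw [← Polynomial.C_mul_X_pow_eq_monomial, Polynomial.toLaurent_C_mul_X_pow, coeff_C_mul_T,
        if_neg (by omega)]
  · exact hx m h

instance gradedSMul_egr : SetLike.GradedSMul (zdeg 𝓕) (egr 𝓕) :=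
  ⟨fun i j r m hr hm => by
    rw [vadd_eq_add, Algebra.smul_def]
    exact SetLike.GradedMul.mul_mem (A := egr 𝓕) hr hm⟩

/-- The ideal of positive degree. -/
def plus : HomogeneousIdeal (zdeg 𝓕) :=
  ⟨Ideal.span {x | ∃ n : ℤ, 0 < n ∧ x ∈ zdeg 𝓕 n},
    Ideal.homogeneous_span _ _ fun _ ⟨n, _, hx⟩ => ⟨n, hx⟩⟩

theorem mem_plus {n : ℤ} (hn : 0 < n) {x : 𝓕.rees} (hx : x ∈ zdeg 𝓕 n) : x ∈ (plus 𝓕).toIdeal :=
  Ideal.subset_span ⟨n, hn, hx⟩

theorem map_plus : (plus 𝓕).toIdeal.map (algebraMap 𝓕.rees 𝓕.extRees) =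
    Ideal.span {x : 𝓕.extRees | ∃ n : ℤ, 0 < n ∧ ∃ a : A, (x : A[T;T⁻¹]) = LaurentPolynomial.C a * T n} := by
  show Ideal.map _ (Ideal.span _) = _
  rw [Ideal.map_span]
  refine le_antisymm (Ideal.span_le.2 ?_) (Ideal.span_mono ?_)
  · rintro _ ⟨x, ⟨n, hn, hx⟩, rfl⟩
    exact Ideal.subset_span ⟨n, hn, _, congrArg Subtype.val (eq_mon 𝓕 hx)⟩
  · rintro y ⟨n, hn, a, hy⟩
    have hym : y ∈ egr 𝓕 n := fun m hm => by rw [hy, coeff_C_mul_T, if_neg hm]
    have ha : a ∈ 𝓕.F n.toNat := by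
      have := y.2 n
      rwa [hy, coeff_C_mul_T, if_pos rfl] at this
    obtain ⟨k, rfl⟩ : ∃ k : ℕ, n = k := ⟨n.toNat, by omega⟩
    refine ⟨rmon 𝓕 k a (by simpa using ha), ⟨k, hn, rmon_mem 𝓕 _ _ _⟩, ?_⟩
    rw [algebraMap_rmon]
    exact Subtype.ext (by rw [coe_mon, hy])

/-- the inclusion as a linear map -/
def incl : 𝓕.rees →ₗ[𝓕.rees] 𝓕.extRees := Algebra.linearMap 𝓕.rees 𝓕.extRees

theorem mon_mem_range (n : ℤ) (hn : 0 ≤ n) (a : A) (h : a ∈ 𝓕.F n.toNat) :
    mon 𝓕 n a h ∈ LinearMap.range (incl 𝓕) := by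
  obtain ⟨k, rfl⟩ : ∃ k : ℕ, n = k := ⟨n.toNat, by omega⟩
  exact ⟨rmon 𝓕 k a (by simpa using h), algebraMap_rmon 𝓕 k a _⟩

theorem plus_pow_smul_mem : ∀ (k : ℕ) (n : ℤ), -(k : ℤ) ≤ n → ∀ y ∈ egr 𝓕 n,
    ∀ x ∈ (plus 𝓕).toIdeal ^ k, x • y ∈ LinearMap.range (incl 𝓕) := by
  intro k
  induction k with
  | zero =>
    intro n hn y hy x _
    refine Submodule.smul_mem _ x ?_
    rw [eq_mon 𝓕 hy]
    exact mon_mem_range 𝓕 n (by simpa using hn) _ _
  | succ k ih =>
    intro n hn y hy x hx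
    rw [pow_succ] at hx
    induction hx using Submodule.mul_induction_on' with
    | mem_mul_mem p hp q hq =>
      rw [mul_smul]
      have hq' : q ∈ Ideal.span {x | ∃ n : ℤ, 0 < n ∧ x ∈ zdeg 𝓕 n} := hq
      clear hq
      induction hq' using Submodule.span_induction generalizing p with
      | mem z hz =>
        obtain ⟨d, hd, hz⟩ := hz
        exact ih (d + n) (by omega) _ (SetLike.GradedSMul.smul_mem hz hy) p hp
      | zero => simp
      | add z w _ _ h₁ h₂ => rw [add_smul, smul_add]; exact add_mem (h₁ p hp) (h₂ p hp)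
      | smul c z _ h₁ =>
        rw [smul_eq_mul, mul_smul, ← mul_smul p c]
        exact h₁ _ (Ideal.mul_mem_right c _ hp)
    | add u _ v _ hu hv => rw [add_smul]; exact add_mem hu hv

theorem torsion_coker (y : 𝓕.extRees) :
    ∃ k : ℕ, ∀ x ∈ (plus 𝓕).toIdeal ^ k, x • y ∈ LinearMap.range (incl 𝓕) := by
  classical
  rw [← DirectSum.sum_support_decompose (egr 𝓕) y]
  generalize (DirectSum.decompose (egr 𝓕) y).support = s
  induction s using Finset.induction_on with
  | empty => exact ⟨0, fun x _ => by simp⟩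
  | insert n s hns ih =>
    obtain ⟨k, hk⟩ := ih
    refine ⟨max k (-n).toNat, fun x hx => ?_⟩
    rw [Finset.sum_insert hns, smul_add]
    refine add_mem (plus_pow_smul_mem 𝓕 (-n).toNat n (by omega) _ (SetLike.coe_mem _) x ?_) (hk x ?_)
    · exact Ideal.pow_le_pow_right (le_max_right _ _) hx
    · exact Ideal.pow_le_pow_right (le_max_left _ _) hx

end Groth.Agent.FiltCoh
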