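import Groth.Agent.FiltCoh.ReesZ
import Groth.Agent.FiltRees.DepthDim
import Groth.Agent.Depth.Local
import Groth.Agent.RegLoc.SupportDim
import Mathlib.RingTheory.Ideal.KrullsHeightTheorem

/-!
# `(S₂)` of the Rees algebra from `(S₂)` of the extended Rees algebra
-/

set_option autoImplicit false
set_option linter.style.haveILetI false

universe u

open Polynomial LaurentPolynomial DirectSum

noncomputable section

namespace Groth.Agent.FiltCoh

open Groth.Agent.FiltRees

section Criteria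

variable {R : Type u} [CommRing R] [IsNoetherianRing R]

theorem ds_eq_height (p : Ideal R) [p.IsPrime] : ds p = ((p.height : ℕ∞) : WithBot ℕ∞) := by
  rw [ds, Module.supportDim_self_eq_ringKrullDim,
    IsLocalization.AtPrime.ringKrullDim_eq_height p (Localization.AtPrime p)]

theorem one_le_dp_iff (p : Ideal R) [p.IsPrime] :
    1 ≤ dp p ↔ ∀ y : R, (∀ x ∈ p, x * y = 0) → ∃ s ∉ p, s * y = 0 := by
  haveI : IsNoetherianRing (Localization.AtPrime p) :=
    IsLocalization.isNoetherianRing p.primeCompl _ inferInstance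
  let f := algebraMap R (Localization.AtPrime p)
  constructor
  · intro h y hy
    obtain ⟨r, hr, hreg⟩ := Depth.exists_isSMulRegular_of_one_le_idealDepth
      (R := Localization.AtPrime p) (M := Localization.AtPrime p) h
    obtain ⟨⟨x, t⟩, hxt⟩ := IsLocalization.surj p.primeCompl r
    have hx : x ∈ p := by
      rw [← IsLocalization.AtPrime.to_map_mem_maximal_iff (Localization.AtPrime p) p, ← hxt]
      exact Ideal.mul_mem_right _ _ hr
    have h0 : f y * f t = 0 := by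
      refine hreg.right_eq_zero_of_smul ?_
      rw [smul_eq_mul, mul_left_comm, show r * f t = f x from hxt, ← map_mul, mul_comm y, hy x hx, map_zero]
    rw [(IsLocalization.map_units (Localization.AtPrime p) t).mul_left_eq_zero,
      IsLocalization.map_eq_zero_iff p.primeCompl] at h0
    obtain ⟨s, hs⟩ := h0
    exact ⟨s, s.2, hs⟩
  · intro h
    refine Depth.one_le_idealDepth_iff.2 fun q hq hle => ?_
    haveI := Depth.isPrime_of_mem_associatedPrimes hq
    have hqm : q = IsLocalRing.maximalIdeal (Localization.AtPrime p) :=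
      le_antisymm (IsLocalRing.le_maximalIdeal (Ideal.IsPrime.ne_top inferInstance)) hle
    have hass : q.comap f ∈ associatedPrimes R R :=
      (Module.associatedPrimes.preimage_comap_associatedPrimes_eq_associatedPrimes_of_isLocalizedModule
        p.primeCompl (Localization.AtPrime p) (Algebra.linearMap R (Localization.AtPrime p))).ge
        (by exact hq)
    rw [hqm, show (IsLocalRing.maximalIdeal (Localization.AtPrime p)).comap f = p from
      Localization.AtPrime.under_maximalIdeal] at hass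
    obtain ⟨-, y, hy⟩ := isAssociatedPrime_iff.1 hass
    obtain ⟨s, hs, hsy⟩ := h y fun x hx => by
      have hx' := hy.le hx
      simpa [Submodule.mem_colon_singleton] using hx'
    refine hs ?_
    rw [hy, Submodule.mem_colon_singleton, Submodule.mem_bot]
    exact hsy

theorem two_le_dp_iff {x : R} (hreg : IsSMulRegular R x) (P : Ideal R) [P.IsPrime] (hx : x ∈ P) :
    2 ≤ dp P ↔ ∀ y : R, (∀ z ∈ P, z * y ∈ Ideal.span {x}) → ∃ s ∉ P, s * y ∈ Ideal.span {x} := by
  haveI := isPrime_map_mk (P := P) hx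
  let π := Ideal.Quotient.mk (Ideal.span {x})
  obtain ⟨h1, -⟩ := dp_ds_quotient hreg (P.map π)
  refine ((iff_of_eq_prime (comap_map_mk hx) (fun J _ => 2 ≤ dp J)).symm.trans ?_)
  rw [h1, show (2 : ℕ∞) = 1 + 1 from rfl, ENat.add_le_add_iff_right ENat.one_ne_top, one_le_dp_iff]
  have hmem : ∀ z : R, π z ∈ P.map π ↔ z ∈ P := fun z => by
    rw [← Ideal.mem_comap, comap_map_mk hx]
  constructor
  · intro h y hy
    obtain ⟨s, hs, hsy⟩ := h (π y) fun z hz => by
      obtain ⟨z, rfl⟩ := Ideal.Quotient.mk_surjective z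
      rw [← map_mul, Ideal.Quotient.eq_zero_iff_mem]
      exact hy z ((hmem z).1 hz)
    obtain ⟨s, rfl⟩ := Ideal.Quotient.mk_surjective s
    exact ⟨s, fun hs' => hs ((hmem s).2 hs'), by
      rwa [← map_mul, Ideal.Quotient.eq_zero_iff_mem] at hsy⟩
  · intro h y hy
    obtain ⟨y, rfl⟩ := Ideal.Quotient.mk_surjective y
    obtain ⟨s, hs, hsy⟩ := h y fun z hz => by
      rw [← Ideal.Quotient.eq_zero_iff_mem, map_mul]
      exact hy _ ((hmem z).2 hz)
    exact ⟨π s, fun hs' => hs ((hmem s).1 hs'), by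
      rwa [← map_mul, Ideal.Quotient.eq_zero_iff_mem]⟩

theorem one_le_dp_of_regular {x : R} (hreg : IsSMulRegular R x) (P : Ideal R) [P.IsPrime] (hx : x ∈ P) :
    1 ≤ dp P := by
  haveI := isPrime_map_mk (P := P) hx
  obtain ⟨h1, -⟩ := dp_ds_quotient hreg (P.map (Ideal.Quotient.mk (Ideal.span {x})))
  exact (iff_of_eq_prime (comap_map_mk hx) (fun J _ => 1 ≤ dp J)).1 (by rw [h1]; exact le_add_self)

theorem min_le_of_cases (P : Ideal R) [P.IsPrime] (h1 : 1 ≤ dp P) (h2 : 2 ≤ P.height → 2 ≤ dp P) :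
    min ((2 : ℕ) : WithBot ℕ∞) (ds P) ≤ ((dp P : ℕ∞) : WithBot ℕ∞) := by
  rw [ds_eq_height, show ((2 : ℕ) : WithBot ℕ∞) = ((2 : ℕ∞) : WithBot ℕ∞) from rfl, ← WithBot.coe_min,
    WithBot.coe_le_coe]
  by_cases h : 2 ≤ P.height
  · exact (min_le_left _ _).trans (h2 h)
  · refine (min_le_right _ _).trans (le_trans ?_ h1)
    rw [not_le, show (2 : ℕ∞) = 1 + 1 from rfl, ENat.lt_add_one_iff ENat.one_ne_top] at h
    exact h

theorem le_dp_of_le_height (h : ∀ (q : Ideal R) [q.IsPrime],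
      min ((2 : ℕ) : WithBot ℕ∞) (ds q) ≤ ((dp q : ℕ∞) : WithBot ℕ∞))
    (q : Ideal R) [q.IsPrime] {k : ℕ∞} (hk : k ≤ 2) (hq : k ≤ q.height) : k ≤ dp q := by
  have h1 := h q
  rw [ds_eq_height, show ((2 : ℕ) : WithBot ℕ∞) = ((2 : ℕ∞) : WithBot ℕ∞) from rfl, ← WithBot.coe_min,
    WithBot.coe_le_coe] at h1
  exact le_trans (le_min hk hq) h1

theorem exists_regular_of_two_le_height (h : ∀ (q : Ideal R) [q.IsPrime],
      min ((2 : ℕ) : WithBot ℕ∞) (ds q) ≤ ((dp q : ℕ∞) : WithBot ℕ∞))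
    (I : Ideal R) (hI : 2 ≤ I.height) : ∃ a ∈ I, IsSMulRegular R a := by
  refine Depth.exists_isSMulRegular_of_forall_not_le fun q hq hle => ?_
  haveI := Depth.isPrime_of_mem_associatedPrimes hq
  have h1 : 1 ≤ dp q := le_dp_of_le_height h q (by norm_num)
    (le_trans (by norm_num) (hI.trans (Ideal.height_mono hle)))
  obtain ⟨-, y, hy⟩ := isAssociatedPrime_iff.1 hq
  obtain ⟨s, hs, hsy⟩ := (one_le_dp_iff q).1 h1 y fun x hx => by
    have hx' := hy.le hx
    simpa [Submodule.mem_colon_singleton] using hx'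
  refine hs ?_
  rw [hy, Submodule.mem_colon_singleton, Submodule.mem_bot]
  exact hsy

end Criteria

variable {A : Type u} [CommRing A] (𝓕 : FiltBl.IdealFiltration A)

theorem F_one_pow_le (n : ℕ) : 𝓕.F 1 ^ n ≤ 𝓕.F n := by
  induction n with
  | zero => rw [𝓕.zero_eq]; exact le_top
  | succ n ih => rw [pow_succ]; exact (Ideal.mul_mono_left ih).trans (𝓕.mul_le n 1)

theorem rmon_coeff (n : ℕ) (a : A) (h : a ∈ 𝓕.F n) (m : ℕ) :
    (rmon 𝓕 n a h : A[X]).coeff m = if n = m then a else 0 := Polynomial.coeff_monomial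

/-- membership in a prime over `p` containing the positive part is read off in degree zero -/
theorem mem_iff_coeff_zero {P : Ideal 𝓕.rees} (hP : (plus 𝓕).toIdeal ≤ P) (x : 𝓕.rees) :
    x ∈ P ↔ (x : A[X]).coeff 0 ∈ P.comap (algebraMap A 𝓕.rees) := by
  have hx : x - algebraMap A 𝓕.rees ((x : A[X]).coeff 0) ∈ P := by
    rw [sum_rmon 𝓕 (x - algebraMap A 𝓕.rees ((x : A[X]).coeff 0))]
    refine P.sum_mem fun n hn => hP ?_
    rcases Nat.eq_zero_or_pos n with h0 | h0
    · subst h0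
      exfalso
      refine (Polynomial.mem_support_iff.1 hn) ?_
      rw [Subalgebra.coe_sub, Subalgebra.coe_algebraMap, Polynomial.algebraMap_apply, Polynomial.coeff_sub,
        Polynomial.coeff_C_zero, Algebra.algebraMap_self, RingHom.id_apply, sub_self]
    · exact mem_plus 𝓕 (by exact_mod_cast h0) (rmon_mem 𝓕 n _ _)
  rw [Ideal.mem_comap]
  exact ⟨fun h => by simpa using P.sub_mem h hx, fun h => by simpa using P.add_mem hx h⟩

theorem coeff_algebraMap_mul (r : A) (y : 𝓕.rees) (n : ℕ) :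
    ((algebraMap A 𝓕.rees r * y : 𝓕.rees) : A[X]).coeff n = r * (y : A[X]).coeff n := by
  rw [Subalgebra.coe_mul, Subalgebra.coe_algebraMap, Polynomial.algebraMap_apply, Algebra.algebraMap_self,
    RingHom.id_apply, Polynomial.coeff_C_mul]

theorem coeff_rmon_mul (m : ℕ) (g : A) (hg : g ∈ 𝓕.F m) (y : 𝓕.rees) (n : ℕ) :
    ((rmon 𝓕 m g hg * y : 𝓕.rees) : A[X]).coeff (n + m) = g * (y : A[X]).coeff n := by
  rw [Subalgebra.coe_mul, rmon, Polynomial.coeff_monomial_mul]

theorem mem_span_algebraMap {a : A} {y : 𝓕.rees} :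
    y ∈ Ideal.span {algebraMap A 𝓕.rees a} ↔ ∀ n, ∃ z ∈ 𝓕.F n, a * z = (y : A[X]).coeff n := by
  classical
  constructor
  · intro h n
    obtain ⟨z, rfl⟩ := Ideal.mem_span_singleton'.1 h
    exact ⟨(z : A[X]).coeff n, z.2 n, by rw [mul_comm z, coeff_algebraMap_mul]⟩
  · intro h
    choose z hz he using h
    rw [sum_rmon 𝓕 y]
    refine Ideal.sum_mem _ fun n _ => Ideal.mem_span_singleton'.2 ⟨rmon 𝓕 n (z n) (hz n), ?_⟩
    refine Subtype.ext (Polynomial.ext fun m => ?_)
    rw [mul_comm, coeff_algebraMap_mul, rmon_coeff, rmon_coeff]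
    split_ifs with e
    · rw [he]
    · rw [mul_zero]

theorem mem_span_rmon {a : A} (ha : a ∈ 𝓕.F 1) {y : 𝓕.rees} :
    y ∈ Ideal.span {rmon 𝓕 1 a ha} ↔
      (y : A[X]).coeff 0 = 0 ∧ ∀ n, ∃ z ∈ 𝓕.F n, a * z = (y : A[X]).coeff (n + 1) := by
  classical
  constructor
  · intro h
    obtain ⟨z, rfl⟩ := Ideal.mem_span_singleton'.1 h
    refine ⟨?_, fun n => ⟨(z : A[X]).coeff n, z.2 n, ?_⟩⟩
    · rw [Subalgebra.coe_mul, Polynomial.mul_coeff_zero, rmon_coeff, if_neg one_ne_zero, mul_zero]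
    · rw [mul_comm z, coeff_rmon_mul]
  · rintro ⟨h0, h⟩
    choose z hz he using h
    rw [sum_rmon 𝓕 y]
    refine Ideal.sum_mem _ fun n hn => ?_
    rcases n with - | n
    · exact absurd h0 (Polynomial.mem_support_iff.1 hn)
    refine Ideal.mem_span_singleton'.2 ⟨rmon 𝓕 n (z n) (hz n), ?_⟩
    refine Subtype.ext (Polynomial.ext fun m => ?_)
    rw [Subalgebra.coe_mul, rmon_coeff, rmon, rmon, Polynomial.monomial_mul_monomial,
      Polynomial.coeff_monomial, mul_comm (z n), he]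

variable [IsNoetherianRing A] [IsNoetherianRing 𝓕.rees]

variable (hA : ∀ (q : Ideal A) [q.IsPrime], min ((2 : ℕ) : WithBot ℕ∞) (ds q) ≤ ((dp q : ℕ∞) : WithBot ℕ∞))

include hA in
/-- primes over `p ⊅ F¹` -/
theorem min_le_of_not_le {P : Ideal 𝓕.rees} [P.IsPrime] (hP : (plus 𝓕).toIdeal ≤ P)
    (hp : ¬ 𝓕.F 1 ≤ P.comap (algebraMap A 𝓕.rees)) {a : A} (ha : a ∈ 𝓕.F 1) (hreg : IsSMulRegular A a) :
    min ((2 : ℕ) : WithBot ℕ∞) (ds P) ≤ ((dp P : ℕ∞) : WithBot ℕ∞) := by
  let p := P.comap (algebraMap A 𝓕.rees)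
  haveI : p.IsPrime := Ideal.IsPrime.comap _
  have hxP : rmon 𝓕 1 a ha ∈ P := hP (mem_plus 𝓕 one_pos (rmon_mem 𝓕 1 a ha))
  have hxreg : IsSMulRegular 𝓕.rees (rmon 𝓕 1 a ha) := fun y z h => by
    refine Subtype.ext (Polynomial.ext fun n => hreg ?_)
    have h1 := congrArg (fun w : 𝓕.rees => (w : A[X]).coeff (n + 1)) h
    simp only [smul_eq_mul, coeff_rmon_mul] at h1 ⊢
    exact h1
  obtain ⟨b, hb, hbp⟩ := SetLike.not_le_iff_exists.1 hp
  refine min_le_of_cases P (one_le_dp_of_regular hxreg P hxP) fun h2 => ?_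
  have hp1 : 1 ≤ p.height := by
    by_contra h0
    rw [not_le, ENat.lt_one_iff_eq_zero, Ideal.height_eq_zero_iff] at h0
    have hbP : rmon 𝓕 1 b hb ∈ P := hP (mem_plus 𝓕 one_pos (rmon_mem 𝓕 1 b hb))
    have hmin : P ∈ (Ideal.span {rmon 𝓕 1 b hb}).minimalPrimes := by
      refine ⟨⟨inferInstance, (Ideal.span_singleton_le_iff_mem _).2 hbP⟩, fun Q hQ hQP => ?_⟩
      haveI := hQ.1
      have hQp : Q.comap (algebraMap A 𝓕.rees) = p :=
        le_antisymm (Ideal.comap_mono hQP) (h0.2 ⟨Ideal.IsPrime.comap _, bot_le⟩ (Ideal.comap_mono hQP))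
      have hbQ : algebraMap A 𝓕.rees b ∉ Q := fun h => hbp (hQp.le h)
      have hQplus : (plus 𝓕).toIdeal ≤ Q := by
        refine Ideal.span_le.2 ?_
        rintro z ⟨n, hn, hz⟩
        rw [SetLike.mem_coe, sum_rmon 𝓕 z]
        refine Q.sum_mem fun m hm => ?_
        rcases m with - | m
        · exfalso
          refine (Polynomial.mem_support_iff.1 hm) ?_
          have h : ((algebraMap 𝓕.rees 𝓕.extRees z : 𝓕.extRees) : A[T;T⁻¹]).coeff 0 = 0 := hz 0 (by omega)
          rw [show ((algebraMap 𝓕.rees 𝓕.extRees z : 𝓕.extRees) : A[T;T⁻¹]) = Polynomial.toLaurent (z : A[X]) from rfl] at h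
          rw [← h, Polynomial.toLaurent_apply, AddMonoidAlgebra.coeff_mapDomain]
          exact (Finsupp.mapDomain_apply Nat.cast_injective _ 0).symm
        · refine (hQ.1.mem_or_mem (x := algebraMap A 𝓕.rees b ^ (m + 1)) ?_).resolve_left
            (fun h => hbQ (hQ.1.mem_of_pow_mem _ h))
          have e : algebraMap A 𝓕.rees b ^ (m + 1) * rmon 𝓕 (m + 1) _ (z.2 (m + 1)) =
              rmon 𝓕 1 b hb ^ (m + 1) * algebraMap A 𝓕.rees ((z : A[X]).coeff (m + 1)) := by
            refine Subtype.ext ?_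
            simp only [Subalgebra.coe_mul, Subalgebra.coe_pow, Subalgebra.coe_algebraMap, rmon,
              Polynomial.algebraMap_apply, Algebra.algebraMap_self, RingHom.id_apply,
              ← Polynomial.C_mul_X_pow_eq_monomial, ← Polynomial.C_pow]
            rw [mul_pow, ← Polynomial.C_pow]
            ring
          rw [e]
          exact Ideal.mul_mem_right _ _ (Ideal.pow_mem_of_mem _
            (hQ.2 (Ideal.mem_span_singleton_self _)) _ (Nat.succ_pos _))
      intro z hz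
      rw [mem_iff_coeff_zero 𝓕 hP] at hz
      rw [mem_iff_coeff_zero 𝓕 hQplus, hQp]
      exact hz
    exact absurd (h2.trans (Ideal.height_le_one_of_isPrincipal_of_mem_minimalPrimes _ P hmin)) (by norm_num)
  refine (two_le_dp_iff hxreg P hxP).2 fun y hy => ?_
  have hdp := le_dp_of_le_height hA p (k := 1) (by norm_num) hp1
  obtain ⟨s, hs, hsy⟩ := (one_le_dp_iff p).1 hdp ((y : A[X]).coeff 0) fun r hr => by
    have h := ((mem_span_rmon 𝓕 ha).1 (hy (algebraMap A 𝓕.rees r) hr)).1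
    rwa [coeff_algebraMap_mul] at h
  refine ⟨algebraMap A 𝓕.rees (b * s), ?_, (mem_span_rmon 𝓕 ha).2 ⟨?_, fun n => ?_⟩⟩
  · exact fun h => (‹p.IsPrime›.mem_or_mem (show b * s ∈ p from h)).elim hbp hs
  · rw [coeff_algebraMap_mul, mul_assoc, hsy, mul_zero]
  · obtain ⟨z, hz, he⟩ := ((mem_span_rmon 𝓕 ha).1
      (hy (rmon 𝓕 1 b hb) (hP (mem_plus 𝓕 one_pos (rmon_mem 𝓕 1 b hb))))).2 (n + 1)
    rw [coeff_rmon_mul] at he
    refine ⟨s * z, Ideal.mul_mem_left _ _ (𝓕.antitone (Nat.le_succ n) hz), ?_⟩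
    rw [coeff_algebraMap_mul, mul_left_comm, he]
    ring

/-- residue of the degree zero coefficient -/
def resHom (p : Ideal A) (hp : 𝓕.F 1 ≤ p) : 𝓕.extRees →+* A ⧸ p where
  toFun x := Ideal.Quotient.mk p ((x : A[T;T⁻¹]).coeff 0)
  map_zero' := by simp
  map_one' := by
    rw [OneMemClass.coe_one, ← LaurentPolynomial.T_zero, LaurentPolynomial.T_apply, if_pos rfl, map_one]
  map_add' x y := by simp
  map_mul' x y := by
    classical
    rw [← map_mul, Ideal.Quotient.eq, MulMemClass.coe_mul, AddMonoidAlgebra.coeff_mul]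
    have hx : (x : A[T;T⁻¹]).coeff 0 * (y : A[T;T⁻¹]).coeff 0 =
        ((x : A[T;T⁻¹]).coeff.sum fun i a => (y : A[T;T⁻¹]).coeff.sum fun j b =>
          if i = 0 ∧ j = 0 then a * b else 0) := by
      rw [Finsupp.sum_eq_single 0 (fun i _ hi => by simp [hi]) (by simp)]
      rw [Finsupp.sum_eq_single 0 (fun j _ hj => by simp [hj]) (by simp)]
      simp
    rw [hx]
    simp only [Finsupp.sum, ← Finset.sum_sub_distrib]
    refine Submodule.sum_mem _ fun i _ => Submodule.sum_mem _ fun j _ => ?_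
    by_cases h : i + j = 0
    · by_cases hi : i = 0
      · rw [if_pos h, if_pos ⟨hi, by omega⟩, sub_self]; exact zero_mem _
      · rw [if_pos h, if_neg (by tauto), sub_zero]
        by_cases hpos : 0 < i
        · exact Ideal.mul_mem_right _ _ (hp (𝓕.antitone (show 1 ≤ i.toNat by omega) (x.2 i)))
        · exact Ideal.mul_mem_left _ _ (hp (𝓕.antitone (show 1 ≤ j.toNat by omega) (y.2 j)))
    · rw [if_neg h, if_neg (by rintro ⟨rfl, rfl⟩; exact h rfl), sub_self]; exact zero_mem _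

variable [IsNoetherianRing 𝓕.extRees]
  (hE : ∀ (Q : Ideal 𝓕.extRees) [Q.IsPrime], min ((2 : ℕ) : WithBot ℕ∞) (ds Q) ≤ ((dp Q : ℕ∞) : WithBot ℕ∞))

theorem mem_span_u {x : 𝓕.extRees} :
    x ∈ Ideal.span {𝓕.u} ↔ ∀ m : ℤ, (x : A[T;T⁻¹]).coeff m ∈ 𝓕.F (m + 1).toNat := by
  constructor
  · intro h m
    obtain ⟨z, rfl⟩ := Ideal.mem_span_singleton'.1 h
    have e : ((z * 𝓕.u : 𝓕.extRees) : A[T;T⁻¹]).coeff m = (z : A[T;T⁻¹]).coeff (m + 1) := by
      rw [MulMemClass.coe_mul, coe_u]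
      induction (z : A[T;T⁻¹]) using LaurentPolynomial.induction_on' with
      | add f g hf hg =>
        rw [add_mul, AddMonoidAlgebra.coeff_add, Finsupp.add_apply, hf, hg, AddMonoidAlgebra.coeff_add,
          Finsupp.add_apply]
      | C_mul_T n a =>
        rw [mul_assoc, ← T_add, coeff_C_mul_T, coeff_C_mul_T]
        exact if_congr (by omega) rfl rfl
    rw [e]
    exact z.2 _
  · intro h
    classical
    rw [← DirectSum.sum_support_decompose (egr 𝓕) x]
    refine Ideal.sum_mem _ fun m _ => Ideal.mem_span_singleton'.2 ⟨mon 𝓕 (m + 1) _ (h m), ?_⟩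
    rw [eq_mon 𝓕 (SetLike.coe_mem (DirectSum.decompose (egr 𝓕) x m))]
    refine Subtype.ext ?_
    rw [MulMemClass.coe_mul, coe_mon, coe_mon, coe_u, mul_assoc, ← T_add, coeff_decompose,
      add_neg_cancel_right]

include hE in
/-- lifting a degree `j` element one step -/
theorem exists_lift (p : Ideal A) [p.IsPrime] (hp : 𝓕.F 1 ≤ p) (hpm : p ∉ minimalPrimes A) {j : ℕ}
    {z : A} (hz : z ∈ 𝓕.F j) (h0 : ∀ r ∈ p, r * z ∈ 𝓕.F (j + 1))
    (hpos : ∀ i : ℕ, 0 < i → ∀ g ∈ 𝓕.F i, g * z ∈ 𝓕.F (i + j + 1)) :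
    ∃ t ∉ p, t * z ∈ 𝓕.F (j + 1) := by
  haveI : Nontrivial (A ⧸ p) := Ideal.Quotient.nontrivial_iff.2 (Ideal.IsPrime.ne_top inferInstance)
  let ψ := resHom 𝓕 p hp
  haveI : IsDomain (A ⧸ p) := Ideal.Quotient.isDomain p
  let Q := RingHom.ker ψ
  haveI : Q.IsPrime := RingHom.ker_isPrime ψ
  have hu : 𝓕.u ∈ Q := by
    show Ideal.Quotient.mk p ((T (-1) : A[T;T⁻¹]).coeff 0) = 0
    rw [LaurentPolynomial.T_apply, if_neg (by omega), map_zero]
  have hht : 2 ≤ Q.height := by
    obtain ⟨q, hq, hqp⟩ := Ideal.exists_minimalPrimes_le (bot_le : (⊥ : Ideal A) ≤ p)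
    haveI := hq.1.1
    have hlt : q < p := lt_of_le_of_ne hqp fun e => hpm (e ▸ hq)
    have hprime : ∀ (r : Ideal A) [r.IsPrime],
        ((r.map (LaurentPolynomial.C (R := A))).comap (algebraMap 𝓕.extRees A[T;T⁻¹])).IsPrime := by
      intro r _
      haveI : IsDomain (A ⧸ r) := Ideal.Quotient.isDomain r
      refine Ideal.IsPrime.comap _ (hK := ?_)
      exact isPrime_map_C r
    haveI := hprime q
    haveI := hprime p
    let q' := (q.map (LaurentPolynomial.C (R := A))).comap (algebraMap 𝓕.extRees A[T;T⁻¹])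
    let p' := (p.map (LaurentPolynomial.C (R := A))).comap (algebraMap 𝓕.extRees A[T;T⁻¹])
    have hmem : ∀ (r : Ideal A) (x : 𝓕.extRees),
        x ∈ (r.map (LaurentPolynomial.C (R := A))).comap (algebraMap 𝓕.extRees A[T;T⁻¹]) ↔
          ∀ m, (x : A[T;T⁻¹]).coeff m ∈ r := fun r x => mem_map_C_iff r _
    have h1 : q' < p' := by
      refine lt_of_le_of_ne (Ideal.comap_mono (Ideal.map_mono hlt.le)) fun e => ?_
      obtain ⟨r, hr, hrq⟩ := SetLike.exists_of_lt hlt
      refine hrq ?_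
      have h0' : r ∈ 𝓕.F (0 : ℤ).toNat := by rw [show (0 : ℤ).toNat = 0 from rfl, 𝓕.zero_eq]; trivial
      have h3 := (hmem p (mon 𝓕 0 r h0')).2 fun m => by
        rw [coe_mon, coeff_C_mul_T]
        split_ifs
        exacts [hr, zero_mem _]
      have h4 := (hmem q _).1 (e.ge h3) 0
      rwa [coe_mon, coeff_C_mul_T, if_pos rfl] at h4
    have h2 : p' < Q := by
      refine lt_of_le_of_ne (fun x hx => ?_) fun e => ?_
      · exact Ideal.Quotient.eq_zero_iff_mem.2 ((hmem p x).1 hx 0)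
      · have h5 := (hmem p 𝓕.u).1 (e.ge hu) (-1)
        rw [coe_u, LaurentPolynomial.T_apply, if_pos rfl] at h5
        exact ‹p.IsPrime›.ne_top ((Ideal.eq_top_iff_one p).2 h5)
    calc (2 : ℕ∞) = 0 + 1 + 1 := by norm_num
      _ ≤ q'.height + 1 + 1 := by gcongr; exact zero_le
      _ ≤ p'.height + 1 := by gcongr; exact Ideal.height_add_one_le_of_lt_of_isPrime h1
      _ ≤ Q.height := Ideal.height_add_one_le_of_lt_of_isPrime h2
  have hmul : ∀ (x : 𝓕.extRees) (m : ℤ),
      ((x * mon 𝓕 j z (by simpa using hz) : 𝓕.extRees) : A[T;T⁻¹]).coeff m =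
        (x : A[T;T⁻¹]).coeff (m - j) * z := by
    intro x m
    rw [MulMemClass.coe_mul, coe_mon]
    induction (x : A[T;T⁻¹]) using LaurentPolynomial.induction_on' with
    | add f g hf hg =>
      rw [add_mul, AddMonoidAlgebra.coeff_add, Finsupp.add_apply, hf, hg, AddMonoidAlgebra.coeff_add,
        Finsupp.add_apply, add_mul]
    | C_mul_T n a =>
      rw [mul_mul_mul_comm, ← map_mul, ← T_add, coeff_C_mul_T, coeff_C_mul_T, ite_mul, zero_mul]
      exact if_congr (by omega) rfl rfl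
  obtain ⟨s, hs, hsy⟩ := (two_le_dp_iff (FiltRees.isSMulRegular_u 𝓕) Q hu).1
    (le_dp_of_le_height hE Q le_rfl hht) (mon 𝓕 j z (by simpa using hz)) fun x hx => by
      refine (mem_span_u 𝓕).2 fun m => ?_
      rw [hmul]
      rcases lt_trichotomy (m - j) 0 with h | h | h
      · exact Ideal.mul_mem_left _ _ (𝓕.antitone (by omega) hz)
      · rw [h]
        exact 𝓕.antitone (by omega) (h0 _ (Ideal.Quotient.eq_zero_iff_mem.1 hx))
      · exact 𝓕.antitone (by omega) (hpos (m - j).toNat (by omega) _ (x.2 _))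
  refine ⟨(s : A[T;T⁻¹]).coeff 0, fun h => hs (Ideal.Quotient.eq_zero_iff_mem.2 h), ?_⟩
  have h := (mem_span_u 𝓕).1 hsy j
  rw [hmul, sub_self] at h
  exact 𝓕.antitone (by omega) h
where
  isPrime_map_C {A : Type u} [CommRing A] (r : Ideal A) [r.IsPrime] :
      (r.map (LaurentPolynomial.C (R := A))).IsPrime := by
    haveI : IsDomain (A ⧸ r) := Ideal.Quotient.isDomain r
    have h : r.map (LaurentPolynomial.C (R := A)) =
        RingHom.ker (AddMonoidAlgebra.mapRingHom ℤ (Ideal.Quotient.mk r)) := by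
      ext x
      rw [mem_map_C_iff, RingHom.mem_ker]
      constructor
      · intro h
        refine LaurentPolynomial.ext fun m => ?_
        simp [Ideal.Quotient.eq_zero_iff_mem, h m]
      · intro h m
        have h' := congrArg (fun w : AddMonoidAlgebra (A ⧸ r) ℤ => w.coeff m) h
        simpa [Ideal.Quotient.eq_zero_iff_mem] using h'
    rw [h]
    exact RingHom.ker_isPrime _
  mem_map_C_iff {A : Type u} [CommRing A] (r : Ideal A) (x : A[T;T⁻¹]) :
      x ∈ r.map (LaurentPolynomial.C (R := A)) ↔ ∀ m, x.coeff m ∈ r := by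
    classical
    constructor
    · intro h m
      induction h using Submodule.span_induction generalizing m with
      | mem w hw =>
        obtain ⟨a, ha, rfl⟩ := hw
        rw [← mul_one (LaurentPolynomial.C a), ← T_zero, coeff_C_mul_T]
        split_ifs
        exacts [ha, zero_mem _]
      | zero => simp
      | add u v _ _ hu hv => rw [AddMonoidAlgebra.coeff_add, Finsupp.add_apply]; exact add_mem (hu m) (hv m)
      | smul c w _ hw =>
        rw [smul_eq_mul, AddMonoidAlgebra.coeff_mul]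
        simp only [Finsupp.sum]
        refine Submodule.sum_mem _ fun i _ => Submodule.sum_mem _ fun k _ => ?_
        split_ifs
        exacts [Ideal.mul_mem_left _ _ (hw k), zero_mem _]
    · intro h
      rw [← AddMonoidAlgebra.sum_coeff_single x]
      refine Ideal.sum_mem _ fun m _ => ?_
      rw [single_eq_C_mul_T]
      exact Ideal.mul_mem_right _ _ (Ideal.mem_map_of_mem _ (h m))

include hA hE in
/-- primes over `p ⊇ F¹` -/
theorem min_le_of_le (hht : 2 ≤ (𝓕.F 1).height) {P : Ideal 𝓕.rees} [P.IsPrime]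
    (hP : (plus 𝓕).toIdeal ≤ P) (hp : 𝓕.F 1 ≤ P.comap (algebraMap A 𝓕.rees)) {a : A} (ha : a ∈ 𝓕.F 1)
    (hreg : IsSMulRegular A a) :
    min ((2 : ℕ) : WithBot ℕ∞) (ds P) ≤ ((dp P : ℕ∞) : WithBot ℕ∞) := by
  let p := P.comap (algebraMap A 𝓕.rees)
  haveI : p.IsPrime := Ideal.IsPrime.comap _
  have hph : 2 ≤ p.height := hht.trans (Ideal.height_mono hp)
  have hpm : p ∉ minimalPrimes A := fun h => by
    rw [Ideal.height_eq_zero_iff.2 h] at hph
    exact absurd hph (by norm_num)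
  have hxP : algebraMap A 𝓕.rees a ∈ P := hp ha
  have hxreg : IsSMulRegular 𝓕.rees (algebraMap A 𝓕.rees a) := fun y z h => by
    refine Subtype.ext (Polynomial.ext fun n => hreg ?_)
    have h1 := congrArg (fun w : 𝓕.rees => (w : A[X]).coeff n) h
    simp only [smul_eq_mul, coeff_algebraMap_mul] at h1 ⊢
    exact h1
  refine min_le_of_cases P (one_le_dp_of_regular hxreg P hxP) fun _ => ?_
  refine (two_le_dp_iff hxreg P hxP).2 fun y hy => ?_
  have key : ∀ n, ∃ s ∉ p, ∃ z ∈ 𝓕.F n, a * z = s * (y : A[X]).coeff n := by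
    intro n
    have h0 : ∀ r ∈ p, ∃ z ∈ 𝓕.F n, a * z = r * (y : A[X]).coeff n := fun r hr => by
      have h := (mem_span_algebraMap 𝓕).1 (hy (algebraMap A 𝓕.rees r) hr) n
      rwa [coeff_algebraMap_mul] at h
    have hpos : ∀ i : ℕ, 0 < i → ∀ g ∈ 𝓕.F i, ∃ z ∈ 𝓕.F (n + i), a * z = g * (y : A[X]).coeff n :=
      fun i hi g hg => by
        have h := (mem_span_algebraMap 𝓕).1
          (hy (rmon 𝓕 i g hg) (hP (mem_plus 𝓕 (by exact_mod_cast hi) (rmon_mem 𝓕 i g hg)))) (n + i)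
        rwa [coeff_rmon_mul] at h
    obtain ⟨s, hs, hsc⟩ := (two_le_dp_iff hreg p (hp ha)).1 (le_dp_of_le_height hA p le_rfl hph)
      ((y : A[X]).coeff n) fun r hr => by
        obtain ⟨z, -, hz⟩ := h0 r hr
        exact Ideal.mem_span_singleton'.2 ⟨z, by rw [mul_comm]; exact hz⟩
    obtain ⟨w, hw⟩ := Ideal.mem_span_singleton'.1 hsc
    suffices h : ∀ j ≤ n, ∃ t ∉ p, t * w ∈ 𝓕.F j by
      obtain ⟨t, ht, htw⟩ := h n le_rfl
      exact ⟨t * s, fun h => (‹p.IsPrime›.mem_or_mem h).elim ht hs, t * w, htw,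
        by rw [mul_assoc, ← hw]; ring⟩
    intro j
    induction j with
    | zero => exact fun _ => ⟨1, fun h => ‹p.IsPrime›.ne_top ((Ideal.eq_top_iff_one p).2 h), by
        rw [𝓕.zero_eq]; trivial⟩
    | succ j ih =>
      intro hj
      obtain ⟨t, ht, htw⟩ := ih (by omega)
      have cancel : ∀ (g v : A), a * v = g * (y : A[X]).coeff n → g * (t * w) = t * s * v := by
        intro g v hv
        refine hreg ?_
        simp only [smul_eq_mul]
        calc a * (g * (t * w)) = t * g * (w * a) := by ring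
          _ = t * g * (s * (y : A[X]).coeff n) := by rw [hw]
          _ = t * s * (g * (y : A[X]).coeff n) := by ring
          _ = a * (t * s * v) := by rw [← hv]; ring
      obtain ⟨t', ht', h'⟩ := exists_lift 𝓕 hE p hp hpm htw (fun r hr => by
        obtain ⟨v, hv, he⟩ := h0 r hr
        rw [cancel r v he]
        exact Ideal.mul_mem_left _ _ (𝓕.antitone hj hv)) (fun i hi g hg => by
        obtain ⟨v, hv, he⟩ := hpos i hi g hg
        rw [cancel g v he]
        exact Ideal.mul_mem_left _ _ (𝓕.antitone (by omega) hv))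
      exact ⟨t' * t, fun h => (‹p.IsPrime›.mem_or_mem h).elim ht' ht, by rwa [mul_assoc]⟩
  choose s hs z hz he using key
  refine ⟨algebraMap A 𝓕.rees (∏ n ∈ (y : A[X]).support, s n), fun h => ?_, ?_⟩
  · obtain ⟨n, -, hn⟩ := Ideal.IsPrime.prod_mem_iff.1 (show (∏ n ∈ (y : A[X]).support, s n) ∈ p from h)
    exact hs n hn
  · refine (mem_span_algebraMap 𝓕).2 fun n => ?_
    rw [coeff_algebraMap_mul]
    by_cases hn : n ∈ (y : A[X]).support
    · refine ⟨(∏ m ∈ (y : A[X]).support.erase n, s m) * z n, Ideal.mul_mem_left _ _ (hz n), ?_⟩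
      rw [← Finset.mul_prod_erase _ _ hn, mul_left_comm, he]
      ring
    · exact ⟨0, zero_mem _, by rw [Polynomial.notMem_support_iff.1 hn, mul_zero, mul_zero]⟩

include hE in
/-- primes not containing the positive part -/
theorem min_le_of_not_plus_le {P : Ideal 𝓕.rees} [P.IsPrime] (hP : ¬ (plus 𝓕).toIdeal ≤ P) :
    min ((2 : ℕ) : WithBot ℕ∞) (ds P) ≤ ((dp P : ℕ∞) : WithBot ℕ∞) := by
  obtain ⟨f, hf, hfP⟩ := SetLike.not_le_iff_exists.1 hP
  let L := Localization.Away (algebraMap 𝓕.rees 𝓕.extRees f)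
  letI : Algebra 𝓕.rees L := ((algebraMap 𝓕.extRees L).comp (algebraMap 𝓕.rees 𝓕.extRees)).toAlgebra
  haveI : IsLocalization (Submonoid.powers f) L := by
    refine (isLocalization_iff _ _).2 ⟨?_, fun w => ?_, fun {x y} h => ?_⟩
    · rintro ⟨-, k, rfl⟩
      rw [map_pow]
      exact (IsLocalization.Away.algebraMap_isUnit (S := L) (algebraMap 𝓕.rees 𝓕.extRees f)).pow k
    · obtain ⟨⟨v, ⟨-, l, rfl⟩⟩, hv⟩ :=
        IsLocalization.surj (Submonoid.powers (algebraMap 𝓕.rees 𝓕.extRees f)) w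
      obtain ⟨k, hk⟩ := torsion_coker 𝓕 v
      obtain ⟨x, hx⟩ := hk (f ^ k) (Ideal.pow_mem_pow hf k)
      refine ⟨⟨x, ⟨f ^ (l + k), l + k, rfl⟩⟩, ?_⟩
      have hx' : algebraMap 𝓕.rees 𝓕.extRees x = algebraMap 𝓕.rees 𝓕.extRees (f ^ k) * v :=
        hx.trans (Algebra.smul_def _ _)
      show w * algebraMap 𝓕.extRees L (algebraMap 𝓕.rees 𝓕.extRees (f ^ (l + k))) =
        algebraMap 𝓕.extRees L (algebraMap 𝓕.rees 𝓕.extRees x)
      rw [hx', pow_add, map_mul, map_mul, map_mul, ← mul_assoc, map_pow (algebraMap 𝓕.rees 𝓕.extRees) f l, hv]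
      ring
    · obtain ⟨⟨-, k, rfl⟩, hk⟩ :=
        (IsLocalization.eq_iff_exists (Submonoid.powers (algebraMap 𝓕.rees 𝓕.extRees f)) L).1 h
      refine ⟨⟨f ^ k, k, rfl⟩, algebraMap_injective 𝓕 ?_⟩
      rw [map_mul, map_mul, map_pow]
      exact hk
  have hdisj : Disjoint (Submonoid.powers f : Set 𝓕.rees) (P : Set 𝓕.rees) :=
    Set.disjoint_left.2 fun y ⟨k, hk⟩ hy => hfP (‹P.IsPrime›.mem_of_pow_mem k (by simp only at hk; rwa [hk]))
  haveI := IsLocalization.isPrime_of_isPrime_disjoint (Submonoid.powers f) L P inferInstance hdisj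
  obtain ⟨h1, h2⟩ := dp_ds_comap L (Submonoid.powers f) (P.map (algebraMap 𝓕.rees L))
  obtain ⟨h3, h4⟩ := dp_ds_comap L (Submonoid.powers (algebraMap 𝓕.rees 𝓕.extRees f))
    (P.map (algebraMap 𝓕.rees L))
  have h5 := hE ((P.map (algebraMap 𝓕.rees L)).comap (algebraMap 𝓕.extRees L))
  rw [h3, h4, ← h1, ← h2] at h5
  exact (iff_of_eq_prime (IsLocalization.under_map_of_isPrime_disjoint (Submonoid.powers f) L inferInstance hdisj)
    (fun J _ => min ((2 : ℕ) : WithBot ℕ∞) (ds J) ≤ ((dp J : ℕ∞) : WithBot ℕ∞))).1 h5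

end Groth.Agent.FiltCoh
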