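import Groth.Agent.FiltCoh.ReesZ

/-!
# `H^q_{F¹}(A) = 0` when `H^q_{G_+}(G) = 0`
-/

set_option autoImplicit false
set_option linter.style.haveILetI false

universe u

open Polynomial LaurentPolynomial TensorProduct

noncomputable section

namespace Groth.Agent.FiltCoh

open Groth.Agent.FiltRees Groth.Agent.GrLC

variable {A : Type u} [CommRing A] [IsNoetherianRing A] (𝓕 : FiltBl.IdealFiltration A)

theorem isNoetherian_rees (hfg : Algebra.FiniteType A 𝓕.rees) : IsNoetherianRing 𝓕.rees :=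
  Algebra.FiniteType.isNoetherianRing A 𝓕.rees

variable [IsNoetherianRing 𝓕.rees]

set_option maxRecDepth 20000 in
theorem exists_egr_bot (i : ℕ) : ∃ r : ℤ, ∀ n : ℤ, r ≤ n →
    LC.gr (𝒜 := zdeg 𝓕) (egr 𝓕) (plus 𝓕) (i + 1) n = ⊥ := by
  let X : _root_.GrLC.GMod.{u} (zdeg 𝓕) := { carrier := 𝓕.rees, gr := zdeg 𝓕 }
  obtain ⟨r, hr⟩ := LC.exists_gr_eq_bot (zdeg_neg 𝓕) (plus 𝓕) (fun n hn x hx => mem_plus 𝓕 hn hx) X
    (inferInstanceAs (Module.Finite 𝓕.rees 𝓕.rees))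
  refine ⟨r, fun n hn => (AddSubgroup.eq_bot_iff_forall _).2 fun y hy => ?_⟩
  let Q := 𝓕.extRees ⧸ LinearMap.range (incl 𝓕)
  haveI : Subsingleton (LocCoh.H (plus 𝓕).toIdeal (i + 1) Q) :=
    LocCohElt.subsingleton_of_powerTorsion (plus 𝓕).toIdeal i Q fun z => by
      obtain ⟨z, rfl⟩ := Submodule.mkQ_surjective _ z
      obtain ⟨k, hk⟩ := torsion_coker 𝓕 z
      exact ⟨k, fun x hx => by
        rw [← map_smul, Submodule.mkQ_apply, Submodule.Quotient.mk_eq_zero]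
        exact hk x hx⟩
  obtain ⟨w, hw⟩ := (LocCohElt.exact_map_map (plus 𝓕).toIdeal (i + 1)
    (f := incl 𝓕) (g := (LinearMap.range (incl 𝓕)).mkQ) (algebraMap_injective 𝓕)
    (LinearMap.exact_map_mkQ_range _) (Submodule.mkQ_surjective _) y).1 (Subsingleton.elim _ _)
  have hf : _root_.GrLC.IsGrHomDeg (zdeg 𝓕) (egr 𝓕) (incl 𝓕) (0 : ℤ) := fun g m hm => by
    rw [add_zero]; exact hm
  obtain ⟨x, hx, hxy⟩ := LC.exists_preimage (𝒜 := zdeg 𝓕) (ℳ := zdeg 𝓕) (𝒩 := egr 𝓕) (plus 𝓕) (i + 1)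
    (LocCohElt.map (plus 𝓕).toIdeal (i + 1) (incl 𝓕)) 0
    (fun g z hz => LC.map_mem_gr_deg (plus 𝓕) (i + 1) hf hz) (g := n) (by rwa [add_zero]) ⟨w, hw⟩
  have h0 : x = 0 := (AddSubgroup.eq_bot_iff_forall _).1 (hr (i + 1) n hn) x hx
  rw [← hxy, h0, map_zero]

variable [IsNoetherianRing 𝓕.extRees]

instance algGr : Algebra 𝓕.rees 𝓕.Gr :=
  RingHom.toAlgebra (R := 𝓕.rees) (S := 𝓕.Gr)
    ((Ideal.Quotient.mk (Ideal.span {𝓕.u})).comp (algebraMap 𝓕.rees 𝓕.extRees))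

instance modGr : Module 𝓕.rees 𝓕.Gr := Algebra.toModule

/-- the projection to `G` -/
def projGr : 𝓕.extRees →ₗ[𝓕.rees] 𝓕.Gr where
  toFun := Ideal.Quotient.mk (Ideal.span {𝓕.u})
  map_add' := map_add _
  map_smul' r y := by
    rw [Algebra.smul_def, map_mul, RingHom.id_apply, Algebra.smul_def]
    rfl

/-- multiplication by `u` -/
def mulU : 𝓕.extRees →ₗ[𝓕.rees] 𝓕.extRees := LinearMap.mulLeft 𝓕.rees 𝓕.u

theorem u_mem_egr : 𝓕.u ∈ egr 𝓕 (-1) := fun m hm => by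
  show (T (-1) : A[T;T⁻¹]).coeff m = 0
  rw [LaurentPolynomial.T_apply, if_neg (Ne.symm hm)]

set_option maxHeartbeats 800000 in
set_option maxRecDepth 20000 in
theorem subsingleton_H_extRees (i : ℕ)
    (hG : Subsingleton (LocCoh.H (((plus 𝓕).toIdeal.map (algebraMap 𝓕.rees 𝓕.extRees)).map
      (Ideal.Quotient.mk (Ideal.span {𝓕.u}))) (i + 1) 𝓕.Gr)) :
    Subsingleton (LocCoh.H ((plus 𝓕).toIdeal.map (algebraMap 𝓕.rees 𝓕.extRees)) (i + 1) 𝓕.extRees) := by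
  let πG : 𝓕.extRees →ₗ[𝓕.rees] 𝓕.Gr := projGr 𝓕
  haveI : Subsingleton (LocCoh.H (plus 𝓕).toIdeal (i + 1) 𝓕.Gr) := by
    obtain ⟨φ, -⟩ := LocCoh.BaseChangeIso.nonempty_H_restrict (A := 𝓕.rees) (B := 𝓕.Gr)
      (plus 𝓕).toIdeal (i + 1) (ModuleCat.of 𝓕.Gr 𝓕.Gr)
    have e : (plus 𝓕).toIdeal.map (algebraMap 𝓕.rees 𝓕.Gr) =
        ((plus 𝓕).toIdeal.map (algebraMap 𝓕.rees 𝓕.extRees)).map (Ideal.Quotient.mk (Ideal.span {𝓕.u})) := by
      rw [Ideal.map_map]; rfl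
    revert φ
    rw [e]
    intro φ
    haveI := hG
    exact φ.symm.toEquiv.subsingleton
  have hreg := FiltRees.isSMulRegular_u 𝓕
  have hex : Function.Exact (mulU 𝓕) πG := fun y => by
    show Ideal.Quotient.mk _ y = 0 ↔ _
    rw [Ideal.Quotient.eq_zero_iff_mem, Ideal.mem_span_singleton']
    exact ⟨fun ⟨c, hc⟩ => ⟨c, by rw [mulU, LinearMap.mulLeft_apply, mul_comm]; exact hc⟩,
      fun ⟨c, hc⟩ => ⟨c, by rw [mul_comm]; exact hc⟩⟩
  have hsurj : Function.Surjective (LocCohElt.map (plus 𝓕).toIdeal (i + 1) (mulU 𝓕)) := fun y =>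
    (LocCohElt.exact_map_map (plus 𝓕).toIdeal (i + 1) (f := mulU 𝓕) (g := πG)
      (fun a b h => hreg h) hex Ideal.Quotient.mk_surjective y).1 (Subsingleton.elim _ _)
  obtain ⟨r, hr⟩ := exists_egr_bot 𝓕 i
  have hf : _root_.GrLC.IsGrHomDeg (egr 𝓕) (egr 𝓕) (mulU 𝓕) (-1 : ℤ) := fun g m hm => by
    rw [add_comm]
    exact SetLike.GradedMul.mul_mem (A := egr 𝓕) (u_mem_egr 𝓕) hm
  have hall : ∀ (k : ℕ) (n : ℤ), r ≤ n + k →
      ∀ y ∈ LC.gr (𝒜 := zdeg 𝓕) (egr 𝓕) (plus 𝓕) (i + 1) n, y = 0 := by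
    intro k
    induction k with
    | zero => intro n hn y hy; exact (AddSubgroup.eq_bot_iff_forall _).1 (hr n (by simpa using hn)) y hy
    | succ k ih =>
      intro n hn y hy
      obtain ⟨x, hx, hxy⟩ := LC.exists_preimage (𝒜 := zdeg 𝓕) (ℳ := egr 𝓕) (𝒩 := egr 𝓕) (plus 𝓕) (i + 1)
        (LocCohElt.map (plus 𝓕).toIdeal (i + 1) (mulU 𝓕)) (-1)
        (fun g z hz => LC.map_mem_gr_deg (plus 𝓕) (i + 1) hf hz) (g := n + 1)
        (by rwa [show n + 1 + -1 = n by ring]) (hsurj y)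
      rw [← hxy, ih (n + 1) (by push_cast at hn ⊢; omega) x hx, map_zero]
  have hR : ∀ x : LocCoh.H (plus 𝓕).toIdeal (i + 1) 𝓕.extRees, x = 0 := by
    intro x
    letI := LC.dec (𝒜 := zdeg 𝓕) (ℳ := egr 𝓕) (plus 𝓕) (i + 1)
    rw [← sum_cpt (LC.gr (𝒜 := zdeg 𝓕) (egr 𝓕) (plus 𝓕) (i + 1)) x]
    exact Finset.sum_eq_zero fun n _ => hall (r - n).toNat n (by omega) _ (cpt_mem _ n x)
  obtain ⟨φ, -⟩ := LocCoh.BaseChangeIso.nonempty_H_restrict (A := 𝓕.rees) (B := 𝓕.extRees)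
    (plus 𝓕).toIdeal (i + 1) (ModuleCat.of 𝓕.extRees 𝓕.extRees)
  exact ⟨fun a b => φ.injective ((hR _).trans (hR _).symm)⟩

/-- flat base change of vanishing -/
theorem subsingleton_H_tensor {B C : Type u} [CommRing B] [CommRing C] [IsNoetherianRing B]
    [IsNoetherianRing C] [Algebra B C] [Module.Flat B C] (I : Ideal B) (q : ℕ)
    [Subsingleton (LocCoh.H I q B)] : Subsingleton (LocCoh.H (I.map (algebraMap B C)) q C) := by
  obtain ⟨φ⟩ := LocCoh.BaseChangeIso.nonempty_H_tensor (B := C) I q (ModuleCat.of B B)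
  haveI : Subsingleton (C ⊗[B] (LocCoh.H I q B)) := subsingleton_of_forall_eq 0 fun z => by
    induction z using TensorProduct.induction_on with
    | zero => rfl
    | tmul a b => rw [Subsingleton.elim b 0, TensorProduct.tmul_zero]
    | add a b ha hb => rw [ha, hb, add_zero]
  exact ((φ.trans (LocCoh.HLinearEquiv _ q (AlgebraTensorModule.rid B C C))).symm.toEquiv).subsingleton

end Groth.Agent.FiltCoh
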